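import Groth.Agent.Lib.PtFun25.Ring
import Groth.Prelude.Def_W4c1hilbchowincPtFun
import Mathlib.AlgebraicGeometry.AffineScheme

/-!
# Pointwise functions on affine schemes
-/

set_option autoImplicit false

universe u

open CategoryTheory AlgebraicGeometry W4c1hilbchowinc GrothLib.UHTower

namespace GrothLib.PtFun25

variable {A : Type u} [CommRing A]

/-- The value of an element at a point. -/
noncomputable def ev (y : Spec (CommRingCat.of A)) : A →+* (Spec (CommRingCat.of A)).residueField y :=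
  ((Scheme.ΓSpecIso (CommRingCat.of A)).inv ≫ (Spec (CommRingCat.of A)).Γevaluation y).hom

theorem ev_eq (y : Spec (CommRingCat.of A)) (a : A) :
    ev y a = (Scheme.Spec.residueFieldIso (CommRingCat.of A) y).inv (algebraMap A y.asIdeal.ResidueField a) :=
  (ConcreteCategory.congr_hom (Scheme.Spec.algebraMap_residueFieldIso_inv (CommRingCat.of A) y) a).symm

theorem ev_eq_zero_iff {y : Spec (CommRingCat.of A)} {a : A} : ev y a = 0 ↔ a ∈ y.asIdeal := by
  rw [ev_eq, map_eq_zero_iff _ (ConcreteCategory.bijective_of_isIso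
    (Scheme.Spec.residueFieldIso (CommRingCat.of A) y).inv).1, Ideal.algebraMap_residueField_eq_zero]

theorem exists_frac (y : Spec (CommRingCat.of A)) (z : (Spec (CommRingCat.of A)).residueField y) :
    ∃ a b : A, b ∉ y.asIdeal ∧ ev y b * z = ev y a := by
  obtain ⟨w, rfl⟩ :=
    (ConcreteCategory.bijective_of_isIso (Scheme.Spec.residueFieldIso (CommRingCat.of A) y).inv).2 z
  obtain ⟨a, b, hb, e⟩ := exists_div_eq y.asIdeal w
  exact ⟨a, b, hb, by rw [ev_eq, ev_eq, ← map_mul, mul_comm, e]⟩

theorem residueFieldMap_ev {R : Type u} [CommRing R] (φ : A →+* R) (P : Spec (CommRingCat.of R)) (a : A) :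
    (Spec.map (CommRingCat.ofHom φ)).residueFieldMap P (ev _ a) = ev P (φ a) :=
  ConcreteCategory.congr_hom (((Category.assoc _ _ _).trans
    ((congrArg ((Scheme.ΓSpecIso (CommRingCat.of A)).inv ≫ ·)
      (Scheme.Γevaluation_naturality (Spec.map (CommRingCat.ofHom φ)) P)).trans
      ((Scheme.ΓSpecIso_inv_naturality_assoc (CommRingCat.ofHom φ) _).symm)))) a

theorem ofSection_apply (s : Γ(Spec (CommRingCat.of A), ⊤)) (y : Spec (CommRingCat.of A)) :
    PtFun.ofSection _ s y = ev y ((Scheme.ΓSpecIso (CommRingCat.of A)).hom s) :=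
  congrArg ((Spec (CommRingCat.of A)).Γevaluation y)
    (ConcreteCategory.congr_hom (Scheme.ΓSpecIso (CommRingCat.of A)).hom_inv_id s).symm

theorem ofSection_inv (a : A) (y : Spec (CommRingCat.of A)) :
    PtFun.ofSection _ ((Scheme.ΓSpecIso (CommRingCat.of A)).inv a) y = ev y a := rfl

theorem ofSection_injective [_root_.IsReduced A] :
    Function.Injective (PtFun.ofSection (Spec (CommRingCat.of A))) := fun s t e => by
  refine (ConcreteCategory.bijective_of_isIso (Scheme.ΓSpecIso (CommRingCat.of A)).hom).1 ?_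
  refine AWN25.eq_of_mod_primes fun p hp => ?_
  have h := congrFun e ⟨p, hp⟩
  rw [ofSection_apply, ofSection_apply, ← sub_eq_zero, ← map_sub, ev_eq_zero_iff] at h
  exact (Ideal.Quotient.mk_eq_mk_iff_sub_mem _ _).2 h

theorem exists_ofSection_eq [IsNoetherianRing A] (hA : HTop.IsSeminormalRing A)
    (f : PtFun (Spec (CommRingCat.of A))) (hf : f.VariesAlongCompleteDVR) :
    ∃! a, PtFun.ofSection (Spec (CommRingCat.of A)) a = f := by
  have := AWN25.isReduced_of_seminormal hA
  choose num den hden hf' using fun y => exists_frac y (f y)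
  obtain ⟨a, ha⟩ := exists_of_varies (num := num) (den := den) hA hden fun R _ _ _ _ φ => by
    obtain ⟨r, hr⟩ := hf R (Spec.map (CommRingCat.ofHom φ))
    refine ⟨(Scheme.ΓSpecIso (CommRingCat.of R)).hom r, fun P => ?_⟩
    have h1 := congrFun hr P
    rw [ofSection_apply] at h1
    have h2 := congrArg ((Spec.map (CommRingCat.ofHom φ)).residueFieldMap P)
      (hf' ((Spec.map (CommRingCat.ofHom φ)) P))
    rw [map_mul, residueFieldMap_ev, residueFieldMap_ev] at h2
    refine ev_eq_zero_iff.1 ?_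
    rw [map_sub, map_mul, h1, sub_eq_zero]
    exact h2
  refine ⟨(Scheme.ΓSpecIso (CommRingCat.of A)).inv a, funext fun y => ?_, fun s hs => ofSection_injective ?_⟩
  · rw [ofSection_inv]
    refine mul_left_cancel₀ (fun h0 => hden y (ev_eq_zero_iff.1 h0)) ?_
    rw [hf' y, ← map_mul, ← sub_eq_zero, ← map_sub, ev_eq_zero_iff]
    exact ha y
  · refine hs.trans (funext fun y => ?_)
    rw [ofSection_inv]
    refine (mul_left_cancel₀ (fun h0 => hden y (ev_eq_zero_iff.1 h0)) ?_).symm
    rw [hf' y, ← map_mul, ← sub_eq_zero, ← map_sub, ev_eq_zero_iff]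
    exact ha y

theorem exists_sq_cube {R K : Type u} [CommRing R] [IsDomain R] [IsIntegrallyClosed R] [Field K] [Algebra R K]
    [IsFractionRing R K] {x y : R} (h : x ^ 3 = y ^ 2) : ∃ r : R, r ^ 2 = x ∧ r ^ 3 = y := by
  by_cases hx : x = 0
  · subst hx
    have hy : y = 0 := sq_eq_zero_iff.1 (h.symm.trans (zero_pow three_ne_zero))
    exact ⟨0, by simp, by simp [hy]⟩
  have hxK : algebraMap R K x ≠ 0 := (map_ne_zero_iff _ (IsFractionRing.injective R K)).2 hx
  let t : K := algebraMap R K y / algebraMap R K x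
  have ht : t ^ 2 = algebraMap R K x := by
    rw [div_pow, div_eq_iff (pow_ne_zero 2 hxK), ← map_pow, ← h, map_pow]; ring
  obtain ⟨r, hr⟩ := IsIntegrallyClosed.exists_algebraMap_eq_of_isIntegral_pow (R := R) (K := K) (x := t)
    two_pos (ht ▸ isIntegral_algebraMap)
  refine ⟨r, IsFractionRing.injective R K (by rw [map_pow, hr, ht]), IsFractionRing.injective R K ?_⟩
  rw [map_pow, hr, pow_succ, ht]
  exact mul_div_cancel₀ _ hxK

theorem isSeminormalRing_of_unique [_root_.IsReduced A]
    (h : ∀ f : PtFun (Spec (CommRingCat.of A)), f.VariesAlongDVR →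
      ∃! a, PtFun.ofSection (Spec (CommRingCat.of A)) a = f) : HTop.IsSeminormalRing A := by
  intro x y hxy
  classical
  let f : PtFun (Spec (CommRingCat.of A)) := fun p => ev p y / ev p x
  have hf : f.VariesAlongDVR := fun R _ _ _ g => by
    obtain ⟨φ, rfl⟩ := Spec.map_surjective g
    obtain ⟨r, h2, h3⟩ := exists_sq_cube (K := FractionRing R) (R := R) (x := φ x) (y := φ y)
      (by rw [← map_pow, hxy, map_pow])
    refine ⟨(Scheme.ΓSpecIso (CommRingCat.of R)).inv r, funext fun P => ?_⟩
    rw [ofSection_inv]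
    change ev P r = (Spec.map φ).residueFieldMap P (ev _ y / ev _ x)
    rw [map_div₀]
    erw [residueFieldMap_ev φ.hom P y, residueFieldMap_ev φ.hom P x]
    rw [← h2, ← h3, map_pow, map_pow]
    by_cases h0 : ev P r = 0
    · simp [h0]
    · rw [eq_div_iff (pow_ne_zero 2 h0)]; ring
  obtain ⟨a, ha, -⟩ := h f hf
  let c := (Scheme.ΓSpecIso (CommRingCat.of A)).hom a
  have hc : ∀ p : Spec (CommRingCat.of A), ev p c ^ 2 = ev p x ∧ ev p c ^ 3 = ev p y := fun p => by
    have e : ev p c = ev p y / ev p x := (ofSection_apply a p).symm.trans (congrFun ha p)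
    have h' : ev p x ^ 3 = ev p y ^ 2 := by rw [← map_pow, hxy, map_pow]
    rw [e]
    by_cases hx : ev p x = 0
    · have hy : ev p y = 0 := sq_eq_zero_iff.1 (h'.symm.trans (by rw [hx, zero_pow three_ne_zero]))
      simp [hx, hy]
    · constructor
      · rw [div_pow, div_eq_iff (pow_ne_zero 2 hx), ← h']; ring
      · rw [div_pow, div_eq_iff (pow_ne_zero 3 hx), h']; ring
  have heq : ∀ u v : A, (∀ p, ev p u = ev p v) → u = v := fun u v huv =>
    AWN25.eq_of_mod_primes fun p hp => (Ideal.Quotient.mk_eq_mk_iff_sub_mem _ _).2 (by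
      have := huv ⟨p, hp⟩
      rw [← sub_eq_zero, ← map_sub, ev_eq_zero_iff] at this
      exact this)
  have hx : x = c ^ 2 := heq _ _ fun p => by rw [map_pow]; exact (hc p).1.symm
  have hy : y = c ^ 3 := heq _ _ fun p => by rw [map_pow]; exact (hc p).2.symm
  exact ⟨c, ⟨hx, hy⟩, fun d hd => AWN25.eq_of_sq_cube (hd.1.symm.trans hx) (hd.2.symm.trans hy)⟩

end GrothLib.PtFun25
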