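import Groth.Agent.Lib.SN25.Scheme
import Groth.Agent.Lib.PtFun25.Scheme
import Mathlib.AlgebraicGeometry.Morphisms.Proper
import Mathlib.AlgebraicGeometry.Morphisms.ClosedImmersion
import Mathlib.LinearAlgebra.Dual.Lemmas

/-!
# Descent of sections along universally closed surjections to seminormal schemes
-/

set_option autoImplicit false

universe u

open CategoryTheory Limits Opposite AlgebraicGeometry TensorProduct GrothLib.UHTower GrothLib.AWN25

namespace GrothLib.PtFun25

theorem mem_range_of_tmul_comm {k K : Type u} [Field k] [Field K] [Algebra k K] (u : K)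
    (h : u ⊗ₜ[k] (1 : K) = (1 : K) ⊗ₜ[k] u) : u ∈ Set.range (algebraMap k K) := by
  by_contra hu
  have hu' : u ∉ Submodule.span k {(1 : K)} := fun hm => hu (by
    obtain ⟨c, hc⟩ := Submodule.mem_span_singleton.1 hm
    exact ⟨c, by rw [← hc, Algebra.smul_def, mul_one]⟩)
  obtain ⟨f, hfu, hf⟩ := Submodule.exists_dual_map_eq_bot_of_notMem hu' inferInstance
  have h1 : f (1 : K) = 0 := by
    have := hf ▸ Submodule.mem_map_of_mem (f := f) (Submodule.mem_span_singleton_self (1 : K))
    simpa using this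
  have := congrArg ((TensorProduct.lid k K).toLinearMap.comp (f.rTensor K)) h
  simp [h1, hfu] at this

theorem appTop_fromSpecResidueField {Y : Scheme.{u}} (y : Y) :
    (Y.fromSpecResidueField y).appTop ≫ (Scheme.ΓSpecIso (Y.residueField y)).hom = Y.Γevaluation y := by
  simp only [Scheme.fromSpecResidueField, Scheme.Hom.comp_appTop, Category.assoc,
    Scheme.fromSpecStalk_appTop, Scheme.ΓSpecIso_naturality]
  simp [Scheme.Γevaluation, Scheme.evaluation]

variable {X Y : Scheme.{u}}

theorem exists_residue_of_comm (π : Y ⟶ X) (s : Γ(Y, ⊤))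
    (hs : (pullback.fst π π).appTop s = (pullback.snd π π).appTop s) (y : Y) :
    Y.Γevaluation y s ∈ Set.range (π.residueFieldMap y) := by
  let _ : Algebra (X.residueField (π y)) (Y.residueField y) := (π.residueFieldMap y).hom.toAlgebra
  let K := Y.residueField y
  let T := K ⊗[X.residueField (π y)] K
  let i₁ : K ⟶ CommRingCat.of T := CommRingCat.ofHom
    (Algebra.TensorProduct.includeLeftRingHom (R := X.residueField (π y)) (A := K) (B := K))
  let i₂ : K ⟶ CommRingCat.of T := CommRingCat.ofHom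
    (Algebra.TensorProduct.includeRight (R := X.residueField (π y)) (A := K) (B := K)).toRingHom
  have hi : π.residueFieldMap y ≫ i₁ = π.residueFieldMap y ≫ i₂ := CommRingCat.hom_ext (RingHom.ext fun c =>
    (Algebra.TensorProduct.includeRight (R := X.residueField (π y)) (A := K) (B := K)).commutes c |>.symm)
  let l := pullback.lift (f := π) (g := π) (Spec.map i₁ ≫ Y.fromSpecResidueField y)
    (Spec.map i₂ ≫ Y.fromSpecResidueField y) (by
      rw [Category.assoc, Category.assoc, ← Scheme.Hom.SpecMap_residueFieldMap_fromSpecResidueField,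
        ← Spec.map_comp_assoc, ← Spec.map_comp_assoc, hi])
  have e := congrArg l.appTop hs
  rw [← CommRingCat.comp_apply, ← CommRingCat.comp_apply, ← Scheme.Hom.comp_appTop, ← Scheme.Hom.comp_appTop,
    pullback.lift_fst, pullback.lift_snd] at e
  have hcomp : ∀ i : K ⟶ CommRingCat.of T,
      (Spec.map i ≫ Y.fromSpecResidueField y).appTop ≫ (Scheme.ΓSpecIso (CommRingCat.of T)).hom =
        Y.Γevaluation y ≫ i := fun i => by
    rw [← appTop_fromSpecResidueField y, Scheme.Hom.comp_appTop, Category.assoc, Category.assoc,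
      Scheme.ΓSpecIso_naturality]
  have e' := congrArg (Scheme.ΓSpecIso (CommRingCat.of T)).hom e
  rw [← CommRingCat.comp_apply, ← CommRingCat.comp_apply, hcomp, hcomp] at e'
  exact mem_range_of_tmul_comm (k := X.residueField (π y)) _ e'

theorem mem_basicOpen_iff_of_comm (π : Y ⟶ X) (c : Γ(Y, ⊤))
    (hc : (pullback.fst π π).appTop c = (pullback.snd π π).appTop c) {y y' : Y} (h : π y = π y') :
    y ∈ Y.basicOpen c ↔ y' ∈ Y.basicOpen c := by
  obtain ⟨w, hw, hw'⟩ := Scheme.Pullback.exists_preimage_pullback y y' h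
  have e1 := Scheme.preimage_basicOpen_top (pullback.fst π π) c
  have e2 := Scheme.preimage_basicOpen_top (pullback.snd π π) c
  rw [hc, ← e2] at e1
  rw [← hw, ← hw']
  exact iff_of_eq (congrArg (w ∈ ·) e1)

theorem injective_app_of_surjective (π : Y ⟶ X) [Surjective π] [AlgebraicGeometry.IsReduced X] (U : X.Opens) :
    Function.Injective (π.app U) := by
  rw [injective_iff_map_eq_zero]
  intro t ht
  rw [← basicOpen_eq_bot_iff, eq_bot_iff]
  intro x hx
  obtain ⟨y, rfl⟩ := π.surjective x
  have h1 : y ∈ π ⁻¹ᵁ X.basicOpen t := hx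
  rw [Scheme.preimage_basicOpen, ht, Scheme.basicOpen_zero] at h1
  exact h1

theorem exists_descend_affine {A : Type u} [CommRing A] (hA : HTop.IsSeminormalRing A)
    (π : Y ⟶ Spec (CommRingCat.of A)) [UniversallyClosed π] [Surjective π] [AlgebraicGeometry.IsReduced Y]
    (s : Γ(Y, ⊤)) (hs : (pullback.fst π π).appTop s = (pullback.snd π π).appTop s) :
    ∃ t, π.appTop t = s := by
  have : _root_.IsReduced A := isReduced_of_seminormal hA
  have : AlgebraicGeometry.IsReduced (Spec (CommRingCat.of A)) := inferInstance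
  let e := (Scheme.ΓSpecIso (CommRingCat.of A)).inv ≫ π.appTop
  let _ : Algebra A Γ(Y, ⊤) := e.hom.toAlgebra
  have : CompactSpace Y := (quasiCompact_iff_compactSpace π).mp inferInstance
  have hint : e.hom.IsIntegral := by
    apply RingHom.isIntegral_respectsIso.2 (e := (Scheme.ΓSpecIso _).symm.commRingCatIsoToRingEquiv)
    exact isIntegral_appTop_of_universallyClosed π
  have hsint : IsIntegral A s := hint s
  let C := Algebra.adjoin A ({s} : Set Γ(Y, ⊤))
  let φ : A →+* C := algebraMap A C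
  let ι : CommRingCat.of C ⟶ Γ(Y, ⊤) := CommRingCat.ofHom C.val.toRingHom
  have hφι : CommRingCat.ofHom φ ≫ ι = e := rfl
  let g : Y ⟶ Spec (CommRingCat.of C) := Y.toSpecΓ ≫ Spec.map ι
  have hg : g ≫ Spec.map (CommRingCat.ofHom φ) = π := by
    rw [Category.assoc, ← Spec.map_comp, hφι, Spec.map_comp, ← Scheme.toSpecΓ_naturality_assoc,
      ← SpecMap_ΓSpecIso_hom, ← Spec.map_comp, Iso.inv_hom_id, Spec.map_id, Category.comp_id]
  have : UniversallyClosed (g ≫ Spec.map (CommRingCat.ofHom φ)) := hg.symm ▸ inferInstance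
  have : UniversallyClosed g := .of_comp_of_isSeparated g (Spec.map (CommRingCat.ofHom φ))
  have : IsDominant g := isDominant_of_of_appTop_injective (by
    rw [Scheme.Hom.comp_appTop, Scheme.toSpecΓ_appTop, Scheme.ΓSpecIso_naturality]
    exact Subtype.val_injective.comp
      (ConcreteCategory.bijective_of_isIso (Scheme.ΓSpecIso (CommRingCat.of C)).hom).1)
  have hgs : Surjective g := surjective_of_isDominant_of_isClosed_range g g.isClosedMap.isClosed_range
  have hmem : ∀ (y : Y) (c : C), c ∈ (g y).asIdeal ↔ y ∉ Y.basicOpen (c : Γ(Y, ⊤)) := fun y c => by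
    have h0 : c ∈ (g y).asIdeal ↔ (c : Γ(Y, ⊤)) ∈ (Y.toSpecΓ y).asIdeal := Iff.rfl
    rw [h0]
    exact iff_not_comm.mp (congr(y ∈ $(Scheme.toSpecΓ_preimage_basicOpen Y (c : Γ(Y, ⊤))))).to_iff.symm
  have hφp : ∀ y : Y, PrimeSpectrum.comap φ (g y) = π y := fun y => by
    conv_rhs => rw [← hg]
    rfl
  have hfst : ∀ a : A, (pullback.fst π π).appTop (e a) = (pullback.snd π π).appTop (e a) := fun a =>
    ConcreteCategory.congr_hom (show π.appTop ≫ (pullback.fst π π).appTop = π.appTop ≫ (pullback.snd π π).appTop by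
      rw [← Scheme.Hom.comp_appTop, ← Scheme.Hom.comp_appTop, pullback.condition])
      ((Scheme.ΓSpecIso (CommRingCat.of A)).inv a)
  have hres : ∀ (y : Y) (a : A), π.residueFieldMap y (ev (π y) a) = Y.Γevaluation y (e a) := fun y a =>
    Scheme.Γevaluation_naturality_apply π y _
  -- a uniform fraction at each point
  have hform : ∀ (q : PrimeSpectrum C), ∃ b a : A, φ b ∉ q.asIdeal ∧
      ∀ q' : PrimeSpectrum C, PrimeSpectrum.comap φ q' = PrimeSpectrum.comap φ q →
        φ b * ⟨s, Algebra.subset_adjoin rfl⟩ - φ a ∈ q'.asIdeal := fun q => by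
    obtain ⟨y, rfl⟩ := g.surjective q
    obtain ⟨z, hz⟩ := exists_residue_of_comm π s hs y
    obtain ⟨a, b, hb, hab⟩ := exists_frac (π y) z
    refine ⟨b, a, fun hq => hb (by rw [← hφp]; exact hq), fun q' hq' => ?_⟩
    obtain ⟨y', rfl⟩ := g.surjective q'
    rw [hφp, hφp] at hq'
    rw [hmem]
    let c : Γ(Y, ⊤) := e b * s - e a
    have hc : (pullback.fst π π).appTop c = (pullback.snd π π).appTop c := by
      simp only [c, map_sub, map_mul, hs, hfst]
    change y' ∉ Y.basicOpen c
    rw [mem_basicOpen_iff_of_comm π c hc hq', ← Y.evaluation_eq_zero_iff_notMem_basicOpen (U := ⊤) y trivial]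
    change Y.Γevaluation y c = 0
    rw [map_sub, map_mul, ← hres, ← hres, ← hz, ← map_mul, hab, sub_self]
  have hf : ∀ (c : C) (q : PrimeSpectrum C), ∃ b a : A, φ b ∉ q.asIdeal ∧ ∀ q' : PrimeSpectrum C,
      PrimeSpectrum.comap φ q' = PrimeSpectrum.comap φ q → φ b * c - φ a ∈ q'.asIdeal := fun c q => by
    have hne : ∀ {q' : PrimeSpectrum C} {b : A}, PrimeSpectrum.comap φ q' = PrimeSpectrum.comap φ q →
        φ b ∉ q.asIdeal → φ b ∉ q'.asIdeal := fun {q' b} hq hb h' =>
      hb (show b ∈ (PrimeSpectrum.comap φ q).asIdeal from hq ▸ h')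
    obtain ⟨c, hc⟩ := c
    induction hc using Algebra.adjoin_induction with
    | mem y hy =>
      obtain rfl := Set.mem_singleton_iff.1 hy
      exact hform q
    | algebraMap r =>
      refine ⟨1, r, by rw [map_one]; exact q.isPrime.one_notMem, fun q' _ => ?_⟩
      rw [map_one, one_mul, show (⟨algebraMap A Γ(Y, ⊤) r, _⟩ : C) = φ r from rfl, sub_self]
      exact zero_mem _
    | add y z hy hz h1 h2 =>
      obtain ⟨b, a, hb, hba⟩ := h1
      obtain ⟨b', a', hb', hba'⟩ := h2
      exact ⟨b * b', a * b' + a' * b, by rw [map_mul]; exact fun h' => (q.isPrime.mem_or_mem h').elim hb hb',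
        fun q' hq => (SN25.exists_mul_sub_mem (φ := φ) (Q := q'.asIdeal) (hne hq hb) (hba q' hq)
          (hne hq hb') (hba' q' hq)).1.2⟩
    | mul y z hy hz h1 h2 =>
      obtain ⟨b, a, hb, hba⟩ := h1
      obtain ⟨b', a', hb', hba'⟩ := h2
      exact ⟨b * b', a * a', by rw [map_mul]; exact fun h' => (q.isPrime.mem_or_mem h').elim hb hb',
        fun q' hq => (SN25.exists_mul_sub_mem (φ := φ) (Q := q'.asIdeal) (hne hq hb) (hba q' hq)
          (hne hq hb') (hba' q' hq)).2⟩
  have htriv : TrivRes φ := fun Q _ c => by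
    obtain ⟨b, a, hb, h⟩ := hf c ⟨Q, inferInstance⟩
    exact ⟨b, a, hb, h _ rfl⟩
  have hic : InjComap φ := fun q q' hqq => by
    have key2 : ∀ r r' : PrimeSpectrum C, PrimeSpectrum.comap φ r = PrimeSpectrum.comap φ r' →
        r.asIdeal ≤ r'.asIdeal := fun r r' e' c hc => by
      obtain ⟨b, a, hb, h⟩ := hf c r
      have ha : φ a ∈ r.asIdeal := (Submodule.sub_mem_iff_right _ (r.asIdeal.mul_mem_left _ hc)).1 (h r rfl)
      have ha' : φ a ∈ r'.asIdeal := show a ∈ (PrimeSpectrum.comap φ r').asIdeal from e' ▸ ha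
      refine (r'.isPrime.mem_or_mem ((Submodule.sub_mem_iff_left _ ha').1 (h r' e'.symm))).resolve_left fun h' => hb ?_
      exact (show b ∈ (PrimeSpectrum.comap φ r).asIdeal from e'.symm ▸ h')
    exact PrimeSpectrum.ext (le_antisymm (key2 q q' hqq) (key2 q' q hqq.symm))
  have hsurj : Function.Surjective (PrimeSpectrum.comap φ) := fun p => by
    obtain ⟨y, hy⟩ := π.surjective p
    exact ⟨g y, (hφp y).trans hy⟩
  have : Algebra.IsIntegral A C := Algebra.IsIntegral.adjoin fun y hy => (Set.mem_singleton_iff.1 hy) ▸ hsint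
  have : _root_.IsReduced C := isReduced_of_injective C.val Subtype.val_injective
  have hu : UH φ := ⟨algebraMap_isIntegral_iff.2 inferInstance, hsurj, radic_of_pires hic htriv.pires⟩
  obtain ⟨t, ht⟩ := (bijective_of_seminormal hA hu htriv).2 ⟨s, Algebra.subset_adjoin rfl⟩
  exact ⟨(Scheme.ΓSpecIso (CommRingCat.of A)).inv t, congrArg Subtype.val ht⟩

theorem existsUnique_descend (hX : HTop.IsSeminormal X) (π : Y ⟶ X) [UniversallyClosed π] [Surjective π]
    [AlgebraicGeometry.IsReduced Y] (s : Γ(Y, ⊤))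
    (hs : (pullback.fst π π).appTop s = (pullback.snd π π).appTop s) : ∃! t : Γ(X, ⊤), π.appTop t = s := by
  have : AlgebraicGeometry.IsReduced X := Groth.Agent.S7421.result.2 X hX
  have hloc : ∀ x : X, ∃ (U : X.Opens) (t : Γ(X, U)), x ∈ U ∧
      π.app U t = Y.presheaf.map (homOfLE le_top).op s := fun x => by
    obtain ⟨U, hU, hxU, -⟩ := exists_isAffineOpen_mem_and_subset (X := X) (x := x) (U := ⊤) trivial
    let π' : ((π ⁻¹ᵁ U : Y.Opens) : Scheme) ⟶ Spec Γ(X, U) := (π ∣_ U) ≫ hU.isoSpec.hom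
    have : Surjective (π ∣_ U) := IsZariskiLocalAtTarget.restrict ‹Surjective π› _
    have : UniversallyClosed (π ∣_ U) := IsZariskiLocalAtTarget.restrict ‹UniversallyClosed π› _
    have : AlgebraicGeometry.IsReduced ((π ⁻¹ᵁ U : Y.Opens) : Scheme) :=
      isReduced_of_isOpenImmersion (π ⁻¹ᵁ U).ι
    let w : pullback π' π' ⟶ pullback π π := pullback.lift (pullback.fst π' π' ≫ (π ⁻¹ᵁ U).ι)
      (pullback.snd π' π' ≫ (π ⁻¹ᵁ U).ι) (by
        rw [Category.assoc, Category.assoc, ← morphismRestrict_ι]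
        have h' := pullback.condition (f := π') (g := π')
        simp only [π', ← Category.assoc, cancel_mono] at h'
        exact (Category.assoc _ _ _).symm.trans ((congrArg (· ≫ U.ι) h').trans (Category.assoc _ _ _)))
    obtain ⟨t, ht⟩ := exists_descend_affine (A := Γ(X, U)) (SN25.isSeminormal_affine hX hU) π'
      ((π ⁻¹ᵁ U).ι.appTop s) (by
        have h' := congrArg w.appTop hs
        rw [← CommRingCat.comp_apply, ← CommRingCat.comp_apply, ← Scheme.Hom.comp_appTop, ← Scheme.Hom.comp_appTop,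
          pullback.lift_fst, pullback.lift_snd, Scheme.Hom.comp_appTop, Scheme.Hom.comp_appTop] at h'
        exact h')
    refine ⟨U, U.topIso.hom (hU.isoSpec.hom.appTop t), hxU, ?_⟩
    have h4 : (π ∣_ U).appTop = U.topIso.hom ≫ π.appLE U (π ⁻¹ᵁ U) le_rfl ≫ (π ⁻¹ᵁ U).topIso.inv := by
      rw [← Scheme.Hom.resLE_eq_morphismRestrict]
      exact Scheme.Hom.resLE_app_top π _
    rw [Scheme.Hom.comp_appTop, h4, Scheme.Opens.ι_appTop] at ht
    have h3 := congrArg (π ⁻¹ᵁ U).topIso.hom ht
    simp only [CommRingCat.comp_apply, ← CommRingCat.comp_apply (π ⁻¹ᵁ U).topIso.inv, Iso.inv_hom_id,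
      CommRingCat.id_apply] at h3
    rw [Scheme.Hom.app_eq_appLE]
    refine h3.trans ?_
    rw [Scheme.Opens.topIso_hom]
    exact (ConcreteCategory.congr_hom (Y.presheaf.map_comp _ _) s).symm
  choose U t hxU ht using hloc
  have hcov : (⊤ : X.Opens) ≤ iSup U := fun x _ => TopologicalSpace.Opens.mem_iSup.2 ⟨x, hxU x⟩
  have hcomp : TopCat.Presheaf.IsCompatible X.presheaf U t := fun i j => by
    refine injective_app_of_surjective π _ ?_
    rw [← CommRingCat.comp_apply, ← CommRingCat.comp_apply, π.naturality, π.naturality,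
      CommRingCat.comp_apply, CommRingCat.comp_apply, ht, ht, ← CommRingCat.comp_apply, ← CommRingCat.comp_apply,
      ← Y.presheaf.map_comp, ← Y.presheaf.map_comp]
    rfl
  obtain ⟨T, hT, -⟩ := TopCat.Sheaf.existsUnique_gluing' X.sheaf U ⊤ (fun i => homOfLE le_top) hcov t hcomp
  refine ⟨T, ?_, fun T' hT' => injective_app_of_surjective π ⊤ (hT'.trans ?_)⟩
  all_goals
    first
    | (refine TopCat.Sheaf.eq_of_locally_eq' Y.sheaf (fun i => π ⁻¹ᵁ U i) ⊤ (fun i => homOfLE le_top)
        (fun y _ => TopologicalSpace.Opens.mem_iSup.2 ⟨π y, hxU (π y)⟩) _ _ fun i => ?_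
       refine Eq.trans ?_ (ht i)
       rw [← hT i]
       exact (ConcreteCategory.congr_hom (π.naturality (homOfLE (le_top : U i ≤ ⊤)).op) T).symm)
    | (refine (TopCat.Sheaf.eq_of_locally_eq' Y.sheaf (fun i => π ⁻¹ᵁ U i) ⊤ (fun i => homOfLE le_top)
        (fun y _ => TopologicalSpace.Opens.mem_iSup.2 ⟨π y, hxU (π y)⟩) _ _ fun i => ?_).symm
       refine Eq.trans ?_ (ht i)
       rw [← hT i]
       exact (ConcreteCategory.congr_hom (π.naturality (homOfLE (le_top : U i ≤ ⊤)).op) T).symm)

end GrothLib.PtFun25
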