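import Groth.Agent.Lib.SN25.Ring
import Groth.Agent.Lib.DVRDom.Exists
import Groth.Agent.Lib.TotalFrac.Basic
import Groth.Agent.Lib.AdicExtra.Completion
import Mathlib.RingTheory.Valuation.LocalSubring
import Mathlib.RingTheory.AdicCompletion.LocalRing

/-!
# Families of residue values varying along complete discrete valuation rings
-/

set_option autoImplicit false

universe u

open scoped nonZeroDivisors
open IsLocalRing GrothLib.UHTower GrothLib.AWN25

namespace GrothLib.PtFun25

variable {A : Type u} [CommRing A]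

/-- The quotients `num p / den p` extend to a value along `φ`. -/
def HasValue (num den : PrimeSpectrum A → A) {R : Type u} [CommRing R] (φ : A →+* R) : Prop :=
  ∃ r : R, ∀ P : PrimeSpectrum R,
    φ (den (PrimeSpectrum.comap φ P)) * r - φ (num (PrimeSpectrum.comap φ P)) ∈ P.asIdeal

/-- The family varies along complete discrete valuation rings. -/
def Varies (num den : PrimeSpectrum A → A) : Prop :=
  ∀ (R : Type u) [CommRing R] [IsDomain R] [IsDiscreteValuationRing R]
    [IsAdicComplete (maximalIdeal R) R] (φ : A →+* R), HasValue num den φ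

variable {num den : PrimeSpectrum A → A}

theorem key (hden : ∀ p, den p ∉ p.asIdeal) (h : Varies num den) {K : Type u} [Field K]
    (V : ValuationSubring K) [IsDiscreteValuationRing V] (φ : A →+* V) (x : K) (η : PrimeSpectrum A)
    (hη : ∀ a, a ∈ η.asIdeal ↔ φ a = 0) (hx : x * (φ (den η) : V) = (φ (num η) : V)) :
    ∃ hxV : x ∈ V, ∀ p : PrimeSpectrum A, (∀ a, a ∈ p.asIdeal ↔ φ a ∈ maximalIdeal V) →
      φ (den p) * ⟨x, hxV⟩ - φ (num p) ∈ maximalIdeal V := by
  let W := AdicCompletion (maximalIdeal V) V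
  obtain ⟨hd, hw⟩ := (GrothLib.AdicExtra.exists_dvr_adicCompletion_iff (A := V)).1 ⟨inferInstance, inferInstance⟩
  let ψ : V →+* W := algebraMap V W
  have hψ : Function.Injective ψ := AdicCompletion.of_injective _ _
  obtain ⟨r, hr⟩ := h W (ψ.comp φ)
  have e0 : PrimeSpectrum.comap (ψ.comp φ) ⟨⊥, Ideal.isPrime_bot⟩ = η := by
    refine PrimeSpectrum.ext (Ideal.ext fun a => ?_)
    rw [hη, PrimeSpectrum.comap_asIdeal, Ideal.mem_comap, Ideal.mem_bot]
    exact map_eq_zero_iff ψ hψ
  have hb : φ (den η) ≠ 0 := fun h0 => hden η ((hη _).2 h0)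
  have h0 := hr ⟨⊥, Ideal.isPrime_bot⟩
  rw [e0, Ideal.mem_bot, sub_eq_zero] at h0
  change ψ (φ (den η)) * r = ψ (φ (num η)) at h0
  have hψb : ψ (φ (den η)) ≠ 0 := (map_ne_zero_iff ψ hψ).2 hb
  by_cases hxV : x ∈ V
  · refine ⟨hxV, fun p hp => ?_⟩
    have e1 : (⟨x, hxV⟩ : V) * φ (den η) = φ (num η) := Subtype.ext hx
    have er : r = ψ ⟨x, hxV⟩ := mul_left_cancel₀ hψb (by rw [h0, ← map_mul, ← e1, mul_comm])
    have hmem : ∀ v : V, ψ v ∈ maximalIdeal W ↔ v ∈ maximalIdeal V := fun v => by
      simp only [mem_maximalIdeal, mem_nonunits_iff, isUnit_map_iff]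
    have e2 : PrimeSpectrum.comap (ψ.comp φ) ⟨maximalIdeal W, inferInstance⟩ = p := by
      refine PrimeSpectrum.ext (Ideal.ext fun a => ?_)
      rw [hp, PrimeSpectrum.comap_asIdeal, Ideal.mem_comap, RingHom.comp_apply]
      exact hmem _
    have h1 := hr ⟨maximalIdeal W, inferInstance⟩
    rw [e2, er, RingHom.comp_apply, RingHom.comp_apply, ← map_mul, ← map_sub, hmem] at h1
    exact h1
  · exfalso
    have hxi : x⁻¹ ∈ V := (V.mem_or_inv_mem x).resolve_left hxV
    have hx0 : x ≠ 0 := fun h' => hxV (h' ▸ V.zero_mem)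
    have e1 : φ (num η) * ⟨x⁻¹, hxi⟩ = φ (den η) := Subtype.ext (by
      change ((φ (num η) : V) : K) * x⁻¹ = (φ (den η) : V)
      rw [← hx, mul_comm x, mul_assoc, mul_inv_cancel₀ hx0, mul_one])
    have hu : IsUnit (ψ ⟨x⁻¹, hxi⟩) := .of_mul_eq_one r (mul_left_cancel₀ hψb (by
      conv_rhs => rw [mul_one, ← e1]
      rw [map_mul, ← h0]
      ring))
    obtain ⟨v, hv⟩ := ((isUnit_map_iff ψ _).1 hu).exists_right_inv
    refine hxV ?_
    have hv' : x⁻¹ * (v : K) = 1 := congrArg Subtype.val hv
    have : x = (v : K) := by rw [← mul_one x, ← hv', ← mul_assoc, mul_inv_cancel₀ hx0, one_mul]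
    exact this ▸ v.2

theorem exists_dvr_center {C K : Type u} [CommRing C] [IsNoetherianRing C] [Field K] (χ : C →+* K)
    (hχ : Function.Injective χ) (hgen : Subfield.closure (Set.range χ) = ⊤) (q : Ideal C) [q.IsPrime]
    (hq : q ≠ ⊥) : ∃ (V : ValuationSubring K) (_ : IsDiscreteValuationRing V) (φ : C →+* V),
      (∀ c, (φ c : K) = χ c) ∧ ∀ c, φ c ∈ maximalIdeal V ↔ c ∈ q := by
  have : IsDomain C := hχ.isDomain χ
  let L := Localization.AtPrime q
  have hu : ∀ s : q.primeCompl, IsUnit (χ s) := fun s =>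
    ((map_ne_zero_iff χ hχ).2 fun h0 => s.2 (by rw [h0]; exact q.zero_mem)).isUnit
  let _ : Algebra L K := (IsLocalization.lift hu).toAlgebra
  have hl : ∀ c, algebraMap L K (algebraMap C L c) = χ c := fun c => IsLocalization.lift_eq _ _
  have hinj : Function.Injective (algebraMap L K) := by
    refine IsLocalization.lift_injective_iff hu |>.2 fun a b => ?_
    exact ⟨fun h => by rw [(IsLocalization.injective L q.primeCompl_le_nonZeroDivisors) h],
      fun h => by rw [hχ h]⟩
  have hnf : ¬ IsField L := fun hf => by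
    obtain ⟨c, hcq, hc⟩ := Submodule.exists_mem_ne_zero_of_ne_bot hq
    have hc0 : algebraMap C L c ≠ 0 :=
      (map_ne_zero_iff _ (IsLocalization.injective L q.primeCompl_le_nonZeroDivisors)).2 hc
    obtain ⟨b, hb⟩ := hf.mul_inv_cancel hc0
    exact (IsLocalization.AtPrime.isUnit_to_map_iff L q c).1 (.of_mul_eq_one b hb) hcq
  obtain ⟨V, hV, hmem, hlt⟩ := GrothLib.DVRDom.exists_dvr_dominating hnf hinj ∅ (top_unique (by
    rw [← hgen]
    exact Subfield.closure_mono fun y ⟨c, hc⟩ => Or.inl ⟨algebraMap C L c, (hl c).trans hc⟩))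
  refine ⟨V, hV, χ.codRestrict V.toSubring fun c => hl c ▸ hmem _, fun c => rfl, fun c => ⟨fun h => ?_, fun h => ?_⟩⟩
  · by_contra hc
    have hu' : IsUnit (((algebraMap L K).codRestrict V.toSubring hmem) (algebraMap C L c)) :=
      RingHom.isUnit_map _ (IsLocalization.map_units L (⟨c, hc⟩ : q.primeCompl))
    refine h ?_
    have e : ((algebraMap L K).codRestrict V.toSubring hmem) (algebraMap C L c) =
        (χ.codRestrict V.toSubring fun c => hl c ▸ hmem _) c := Subtype.ext (hl c)
    exact e ▸ hu'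
  · refine (V.valuation_lt_one_iff _).2 ?_
    change V.valuation (χ c) < 1
    rw [← hl]
    exact hlt _ ((IsLocalization.AtPrime.to_map_mem_maximal_iff L q c).2 h)

variable [IsNoetherianRing A]

theorem isIntegral_value (hden : ∀ p, den p ∉ p.asIdeal) (h : Varies num den) (η : PrimeSpectrum A) :
    ∃ P : Polynomial A, P.Monic ∧ P.eval₂ (algebraMap A η.asIdeal.ResidueField)
      (algebraMap A η.asIdeal.ResidueField (num η) / algebraMap A η.asIdeal.ResidueField (den η)) = 0 := by
  let K := η.asIdeal.ResidueField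
  let g := algebraMap A K
  let x : K := g (num η) / g (den η)
  let R : Subring K := (integralClosure A K).toSubring
  by_contra hx
  have hxR : x ∉ R := hx
  have : IsIntegrallyClosedIn R K := inferInstanceAs (IsIntegrallyClosedIn (integralClosure A K) K)
  obtain ⟨W, hW, hxW⟩ := Subring.exists_le_valuationSubring_of_isIntegrallyClosedIn hxR
  have hx0 : x ≠ 0 := fun h0 => hxW (h0 ▸ W.zero_mem)
  have hw : x⁻¹ ∈ W := (W.mem_or_inv_mem x).resolve_left hxW
  let T := Algebra.adjoin A ({x⁻¹} : Set K)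
  have : IsNoetherianRing T := isNoetherianRing_of_fg (Subalgebra.fg_adjoin_finset {x⁻¹} |> fun hh => by
    simpa using hh)
  have hTW : ∀ t : T, (t : K) ∈ W := fun t => by
    refine Algebra.adjoin_induction (fun y hy => (Set.mem_singleton_iff.1 hy) ▸ hw)
      (fun a => hW ((integralClosure A K).algebraMap_mem a)) (fun _ _ _ _ => W.add_mem _ _)
      (fun _ _ _ _ => W.mul_mem _ _) t.2
  let ι : T →+* W := T.val.toRingHom.codRestrict W.toSubring hTW
  let q : Ideal T := (maximalIdeal W).comap ι
  have hwq : (⟨x⁻¹, Algebra.subset_adjoin rfl⟩ : T) ∈ q := by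
    refine fun hu : IsUnit (⟨x⁻¹, hw⟩ : W) => hxW ?_
    obtain ⟨v, hv⟩ := hu.exists_right_inv
    have : x = (v : K) := by
      rw [← mul_one x, ← (show x⁻¹ * (v : K) = 1 from congrArg Subtype.val hv), ← mul_assoc,
        mul_inv_cancel₀ hx0, one_mul]
    exact this ▸ v.2
  have hgen : Subfield.closure (Set.range T.val.toRingHom) = ⊤ := top_unique fun z _ => by
    obtain ⟨a, s, hs0, hz⟩ := exists_div_eq η.asIdeal z
    have hmem : ∀ a : A, g a ∈ Subfield.closure (Set.range T.val.toRingHom) := fun a =>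
      Subfield.subset_closure ⟨algebraMap A T a, rfl⟩
    by_cases hs : g s = 0
    · exact absurd (Ideal.algebraMap_residueField_eq_zero.1 hs) hs0
    · rw [eq_div_of_mul_eq hs hz]
      exact div_mem (hmem a) (hmem s)
  obtain ⟨V, hV, φ, hφ, hφq⟩ := exists_dvr_center T.val.toRingHom Subtype.val_injective hgen q
    (Submodule.ne_bot_iff _ |>.2 ⟨_, hwq, fun h0 => inv_ne_zero hx0 (congrArg Subtype.val h0)⟩)
  have hga : ∀ a, ((φ (algebraMap A T a) : V) : K) = g a := fun a => hφ _
  obtain ⟨hxV, -⟩ := key hden h V (φ.comp (algebraMap A T)) x η (fun a => by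
    rw [← Ideal.algebraMap_residueField_eq_zero, RingHom.comp_apply, ← hga]
    exact ⟨fun e => Subtype.ext e, fun e => congrArg Subtype.val e⟩) (by
    rw [RingHom.comp_apply, RingHom.comp_apply, hga, hga]
    exact div_mul_cancel₀ _ fun h0 => hden η (Ideal.algebraMap_residueField_eq_zero.1 h0))
  refine (show φ ⟨x⁻¹, Algebra.subset_adjoin rfl⟩ ∈ maximalIdeal V from (hφq _).2 hwq) ?_
  refine .of_mul_eq_one ⟨x, hxV⟩ (Subtype.ext ?_)
  change ((φ ⟨x⁻¹, Algebra.subset_adjoin rfl⟩ : V) : K) * x = 1
  rw [hφ]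
  exact inv_mul_cancel₀ hx0

theorem exists_generic (num den : PrimeSpectrum A → A) (hden : ∀ p, den p ∉ p.asIdeal) [IsReduced A] :
    ∃ a b : A, b ∈ A⁰ ∧ ∀ p : PrimeSpectrum A, p.asIdeal ∈ minimalPrimes A →
      den p * a - num p * b ∈ p.asIdeal := by
  classical
  have : Fintype (minimalPrimes A) := (minimalPrimes.finite_of_isNoetherianRing A).fintype
  let pt : minimalPrimes A → PrimeSpectrum A := fun q => ⟨q.1, q.2.1.1⟩
  have (i : minimalPrimes A) : (pt i).asIdeal.IsPrime := (pt i).isPrime
  choose e he he' using fun i => GrothLib.TotalFrac.exists_separating (fun i => (pt i).asIdeal)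
    Subtype.val_injective (fun i => i.2) i
  have hej : ∀ i j, j ≠ i → e i ∈ (pt j).asIdeal := fun i j hj => by
    obtain ⟨⟨t, ht⟩, h0⟩ := (IsLocalization.map_eq_zero_iff (pt j).asIdeal.primeCompl _ _).1 (he' i j hj)
    exact ((pt j).isPrime.mem_or_mem (show t * e i ∈ _ by rw [h0]; exact zero_mem _)).resolve_left ht
  have hsum : ∀ (c : minimalPrimes A → A) j,
      (∑ i, e i * c i) - e j * c j ∈ (pt j).asIdeal := fun c j => by
    rw [← Finset.add_sum_erase _ _ (Finset.mem_univ j), add_sub_cancel_left]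
    exact Submodule.sum_mem _ fun i hi => Ideal.mul_mem_right _ _ (hej i j (Finset.ne_of_mem_erase hi).symm)
  refine ⟨∑ i, e i * num (pt i), ∑ i, e i * den (pt i), ?_, fun p hp => ?_⟩
  · rw [mem_nonZeroDivisors_iff_right]
    intro y hy
    refine IsReduced.eq_zero y ?_
    rw [← mem_nilradical, nilradical, ← Ideal.sInf_minimalPrimes, Submodule.mem_sInf]
    intro q hq
    let j : minimalPrimes A := ⟨q, hq⟩
    refine ((pt j).isPrime.mem_or_mem (show y * (∑ i, e i * den (pt i)) ∈ (pt j).asIdeal by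
      rw [hy]; exact zero_mem _)).resolve_right fun hb => ?_
    have := (Submodule.sub_mem_iff_right _ hb).1 (hsum (fun i => den (pt i)) j)
    exact ((pt j).isPrime.mem_or_mem this).elim (he j) (hden _)
  · let j : minimalPrimes A := ⟨p.asIdeal, hp⟩
    change den (pt j) * _ - num (pt j) * _ ∈ (pt j).asIdeal
    have e1 := (pt j).asIdeal.mul_mem_left (den (pt j)) (hsum (fun i => num (pt i)) j)
    have e2 := (pt j).asIdeal.mul_mem_left (num (pt j)) (hsum (fun i => den (pt i)) j)
    convert sub_mem e1 e2 using 1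
    ring

/-- In a seminormal Noetherian ring, a family varying along complete DVRs comes from an element. -/
theorem exists_of_varies (hA : HTop.IsSeminormalRing A) (hden : ∀ p, den p ∉ p.asIdeal)
    (h : Varies num den) : ∃ a : A, ∀ p : PrimeSpectrum A, den p * a - num p ∈ p.asIdeal := by
  classical
  have : IsReduced A := isReduced_of_seminormal hA
  obtain ⟨a, b, hb, hab⟩ := exists_generic num den hden
  let Q := FractionRing A
  let x : Q := IsLocalization.mk' Q a (⟨b, hb⟩ : A⁰)
  have : Fintype (minimalPrimes A) := (minimalPrimes.finite_of_isNoetherianRing A).fintype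
  let pt : minimalPrimes A → PrimeSpectrum A := fun q => ⟨q.1, q.2.1.1⟩
  choose P hP hP0 using fun i : minimalPrimes A => isIntegral_value hden h (pt i)
  have hx : IsIntegral A x := by
    refine ⟨∏ i, P i, Polynomial.monic_prod_of_monic _ _ fun i _ => hP i, ?_⟩
    obtain ⟨⟨c, s⟩, hcs⟩ := IsLocalization.surj A⁰ (Polynomial.eval₂ (algebraMap A Q) x (∏ i, P i))
    have hc : c = 0 := by
      refine IsReduced.eq_zero c ?_
      rw [← mem_nilradical, nilradical, ← Ideal.sInf_minimalPrimes, Submodule.mem_sInf]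
      intro q hq
      let j : minimalPrimes A := ⟨q, hq⟩
      have : (pt j).asIdeal.IsPrime := (pt j).isPrime
      let K := (pt j).asIdeal.ResidueField
      have hu : ∀ t : A⁰, IsUnit (algebraMap A K t) := fun t => by
        refine isUnit_iff_ne_zero.2 fun h0 => ?_
        exact Set.disjoint_left.1 (Ideal.disjoint_nonZeroDivisors_of_mem_minimalPrimes hq)
          (Ideal.algebraMap_residueField_eq_zero.1 h0) t.2
      let π : Q →+* K := IsLocalization.lift hu
      have hπx : π x = algebraMap A K (num (pt j)) / algebraMap A K (den (pt j)) := by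
        rw [eq_div_iff fun h0 => hden _ (Ideal.algebraMap_residueField_eq_zero.1 h0)]
        refine (hu ⟨b, hb⟩).mul_right_cancel ?_
        have e : π x * algebraMap A K b = algebraMap A K a := by
          have hl : ∀ t : A, π (algebraMap A Q t) = algebraMap A K t := fun t => IsLocalization.lift_eq hu t
          rw [← hl b, ← hl a, ← map_mul]
          exact congrArg π (IsLocalization.mk'_spec Q a (⟨b, hb⟩ : A⁰))
        have e2 := Ideal.algebraMap_residueField_eq_zero.2 (hab (pt j) hq)
        rw [map_sub, map_mul, map_mul, sub_eq_zero] at e2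
        rw [mul_right_comm, e, mul_comm]
        exact e2
      have hev : π (Polynomial.eval₂ (algebraMap A Q) x (∏ i, P i)) = 0 := by
        rw [Polynomial.hom_eval₂, show π.comp (algebraMap A Q) = algebraMap A K from IsLocalization.lift_comp hu,
          hπx, Polynomial.eval₂_finsetProd]
        exact Finset.prod_eq_zero (Finset.mem_univ j) (hP0 j)
      refine Ideal.algebraMap_residueField_eq_zero.1 (?_ : algebraMap A (pt j).asIdeal.ResidueField c = 0)
      have := congrArg π hcs
      rw [map_mul, hev, zero_mul] at this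
      exact ((IsLocalization.lift_eq hu c).symm.trans this.symm)
    rw [hc, map_zero] at hcs
    exact ((IsLocalization.map_units Q s).mul_left_eq_zero).1 hcs
  let C := Algebra.adjoin A ({x} : Set Q)
  have : IsNoetherianRing C := isNoetherianRing_of_fg (Subalgebra.fg_adjoin_finset {x} |> fun hh => by
    simpa using hh)
  have : IsReduced Q := inferInstance
  have : IsReduced C := isReduced_of_injective C.val Subtype.val_injective
  have hint : Algebra.IsIntegral A C := Algebra.IsIntegral.adjoin fun y hy => (Set.mem_singleton_iff.1 hy) ▸ hx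
  have hinj : Function.Injective (algebraMap A C) := fun y z e =>
    IsFractionRing.injective A Q (congrArg Subtype.val e)
  let X : C := ⟨x, Algebra.subset_adjoin rfl⟩
  have hX : algebraMap A C b * X = algebraMap A C a := Subtype.ext (IsLocalization.mk'_spec' Q a (⟨b, hb⟩ : A⁰))
  have hloc : ∀ (q : Ideal C) [q.IsPrime],
      algebraMap A C (den ⟨q.comap (algebraMap A C), inferInstance⟩) * X -
        algebraMap A C (num ⟨q.comap (algebraMap A C), inferInstance⟩) ∈ q := fun q _ => by
    obtain ⟨q₀, hq₀, hle⟩ := Ideal.exists_minimalPrimes_le (J := q) (I := ⊥) bot_le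
    have := hq₀.1.1
    let η : PrimeSpectrum A := ⟨q₀.comap (algebraMap A C), inferInstance⟩
    have hη : η.asIdeal ∈ minimalPrimes A := by
      obtain ⟨r, hr, hrle⟩ := Ideal.exists_minimalPrimes_le (J := η.asIdeal) (I := ⊥) bot_le
      have hzd : ∀ s ∈ η.asIdeal, s ∉ A⁰ := fun s hs hs0 =>
        Set.disjoint_left.1 (Ideal.disjoint_nonZeroDivisors_of_mem_minimalPrimes hq₀) hs
          (mem_nonZeroDivisors_iff_right.2 fun c hc => Subtype.ext (by
            refine (IsLocalization.map_units Q (⟨s, hs0⟩ : A⁰)).mul_left_eq_zero.1 ?_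
            exact congrArg Subtype.val hc))
      have hsub : (η.asIdeal : Set A) ⊆ ⋃ i ∈ (Finset.univ : Finset (minimalPrimes A)), (i.1 : Set A) := by
        intro s hs
        by_contra hn
        refine hzd s hs (mem_nonZeroDivisors_iff_right.2 fun y hy => IsReduced.eq_zero y ?_)
        rw [← mem_nilradical, nilradical, ← Ideal.sInf_minimalPrimes, Submodule.mem_sInf]
        intro q' hq'
        refine (hq'.1.1.mem_or_mem (show y * s ∈ q' by rw [hy]; exact zero_mem _)).resolve_right fun hsq => hn ?_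
        exact Set.mem_biUnion (Finset.mem_univ ⟨q', hq'⟩) hsq
      obtain ⟨i, -, hi⟩ := (Ideal.subset_union_prime (f := fun i : minimalPrimes A => i.1) ⟨r, hr⟩ ⟨r, hr⟩
        (fun i _ _ _ => i.2.1.1)).1 hsub
      exact (le_antisymm hi (i.2.2 ⟨η.isPrime, bot_le⟩ hi)) ▸ i.2
    have hgen : algebraMap A C (den η) * X - algebraMap A C (num η) ∈ q₀ := by
      refine (hq₀.1.1.mem_or_mem (?_ : algebraMap A C b * (algebraMap A C (den η) * X - algebraMap A C (num η)) ∈ q₀)).resolve_left
        fun hbq => Set.disjoint_left.1 (Ideal.disjoint_nonZeroDivisors_of_mem_minimalPrimes hη) hbq hb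
      rw [mul_sub, mul_left_comm, hX, ← map_mul, ← map_mul, ← map_sub, mul_comm b]
      exact hab η hη
    by_cases hqe : q = q₀
    · subst hqe; exact hgen
    let D := C ⧸ q₀
    let K := FractionRing D
    have hgenK : Subfield.closure (Set.range (algebraMap D K)) = ⊤ := top_unique fun z _ => by
      obtain ⟨y, t, -, rfl⟩ := IsFractionRing.div_surjective D z
      exact div_mem (Subfield.subset_closure ⟨y, rfl⟩) (Subfield.subset_closure ⟨t, rfl⟩)
    have : (q.map (Ideal.Quotient.mk q₀)).IsPrime :=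
      Ideal.map_isPrime_of_surjective Ideal.Quotient.mk_surjective (by rw [Ideal.mk_ker]; exact hle)
    have hmem : ∀ c : C, Ideal.Quotient.mk q₀ c ∈ q.map (Ideal.Quotient.mk q₀) ↔ c ∈ q := fun c => by
      rw [← Ideal.mem_comap, Ideal.comap_map_of_surjective' _ Ideal.Quotient.mk_surjective, Ideal.mk_ker,
        sup_eq_left.2 hle]
    obtain ⟨V, hV, φ, hφ, hφq⟩ := exists_dvr_center (algebraMap D K) (IsFractionRing.injective D K) hgenK
      (q.map (Ideal.Quotient.mk q₀)) fun h0 => hqe (le_antisymm (fun c hc => by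
        have := (hmem c).2 hc
        rw [h0, Ideal.mem_bot, Ideal.Quotient.eq_zero_iff_mem] at this
        exact this) hle)
    let φ' : C →+* V := φ.comp (Ideal.Quotient.mk q₀)
    have hzero : ∀ c : C, c ∈ q₀ ↔ φ' c = 0 := fun c => by
      rw [← Ideal.Quotient.eq_zero_iff_mem, ← map_eq_zero_iff _ (IsFractionRing.injective D K), ← hφ]
      exact ⟨fun e => Subtype.ext e, fun e => congrArg Subtype.val e⟩
    have e0 := (hzero _).1 hgen
    rw [map_sub, sub_eq_zero, map_mul] at e0
    obtain ⟨hxV, hval⟩ := key hden h V (φ'.comp (algebraMap A C)) (φ' X : K) η (fun y => hzero _)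
      (by rw [mul_comm]; exact congrArg Subtype.val e0)
    have h1 := hval ⟨q.comap (algebraMap A C), inferInstance⟩ fun y => ((hφq _).trans (hmem _)).symm
    rw [show (⟨_, hxV⟩ : V) = φ' X from rfl] at h1
    refine (hmem _).1 ((hφq _).1 ?_)
    rw [map_sub, map_mul, map_sub, map_mul]
    exact h1
  let φ := algebraMap A C
  have hform : ∀ (c : C) (p : PrimeSpectrum A), ∃ s t : A, s ∉ p.asIdeal ∧ ∀ (q : Ideal C) [q.IsPrime],
      q.comap φ = p.asIdeal → φ s * c - φ t ∈ q := fun c p => by
    obtain ⟨c, hc⟩ := c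
    induction hc using Algebra.adjoin_induction with
    | mem y hy =>
      obtain rfl := Set.mem_singleton_iff.1 hy
      refine ⟨den p, num p, hden p, fun q _ hq => ?_⟩
      have := hloc q
      rwa [show (⟨q.comap φ, inferInstance⟩ : PrimeSpectrum A) = p from PrimeSpectrum.ext hq] at this
    | algebraMap r =>
      refine ⟨1, r, (Ideal.ne_top_iff_one _).1 p.isPrime.ne_top, fun q _ _ => ?_⟩
      rw [map_one, one_mul, show (⟨algebraMap A Q r, _⟩ : C) = φ r from rfl, sub_self]
      exact zero_mem _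
    | add y z hy hz h1 h2 =>
      obtain ⟨s, t, hs, hst⟩ := h1
      obtain ⟨s', t', hs', hst'⟩ := h2
      refine ⟨s * s', t * s' + t' * s, fun h' => (p.isPrime.mem_or_mem h').elim hs hs', fun q _ hq => ?_⟩
      exact (SN25.exists_mul_sub_mem (φ := φ) (Q := q) (fun h' => hs (hq ▸ h')) (hst q hq)
        (fun h' => hs' (hq ▸ h')) (hst' q hq)).1.2
    | mul y z hy hz h1 h2 =>
      obtain ⟨s, t, hs, hst⟩ := h1
      obtain ⟨s', t', hs', hst'⟩ := h2
      refine ⟨s * s', t * t', fun h' => (p.isPrime.mem_or_mem h').elim hs hs', fun q _ hq => ?_⟩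
      exact (SN25.exists_mul_sub_mem (φ := φ) (Q := q) (fun h' => hs (hq ▸ h')) (hst q hq)
        (fun h' => hs' (hq ▸ h')) (hst' q hq)).2
  have htriv : TrivRes φ := fun q _ c => by
    obtain ⟨s, t, hs, hst⟩ := hform c ⟨q.comap φ, inferInstance⟩
    exact ⟨s, t, hs, hst q rfl⟩
  have hic : InjComap φ := fun q q' e => by
    have key2 : ∀ r r' : PrimeSpectrum C, PrimeSpectrum.comap φ r = PrimeSpectrum.comap φ r' →
        r.asIdeal ≤ r'.asIdeal := fun r r' e' c hc => by
      obtain ⟨s, t, hs, hst⟩ := hform c (PrimeSpectrum.comap φ r)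
      have ht : φ t ∈ r.asIdeal := (Submodule.sub_mem_iff_right _ (r.asIdeal.mul_mem_left _ hc)).1 (hst _ rfl)
      have ht' : t ∈ (PrimeSpectrum.comap φ r').asIdeal := e' ▸ ht
      have := (Submodule.sub_mem_iff_left _ (show φ t ∈ r'.asIdeal from ht')).1
        (hst _ (congrArg PrimeSpectrum.asIdeal e'.symm))
      refine (r'.isPrime.mem_or_mem this).resolve_left fun h' => hs ?_
      exact e' ▸ h'
    exact PrimeSpectrum.ext (le_antisymm (key2 q q' e) (key2 q' q e.symm))
  have hsurj : Function.Surjective (PrimeSpectrum.comap φ) := fun p => by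
    obtain ⟨q, -, hq, hqp⟩ := Ideal.exists_ideal_over_prime_of_isIntegral p.asIdeal (⊥ : Ideal C)
      (fun y hy => by
        rw [Ideal.mem_comap, Ideal.mem_bot, map_eq_zero_iff _ hinj] at hy
        exact hy ▸ p.asIdeal.zero_mem)
    exact ⟨⟨q, hq⟩, PrimeSpectrum.ext hqp⟩
  have hu : UH φ := ⟨algebraMap_isIntegral_iff.2 hint, hsurj, radic_of_pires hic htriv.pires⟩
  obtain ⟨a', ha'⟩ := (bijective_of_seminormal hA hu htriv).2 X
  refine ⟨a', fun p => ?_⟩
  obtain ⟨q, hq⟩ := hsurj p
  have := hloc q.asIdeal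
  rw [show (⟨q.asIdeal.comap (algebraMap A C), inferInstance⟩ : PrimeSpectrum A) = p from hq] at this
  rw [← hq]
  change φ (den (PrimeSpectrum.comap φ q) * a' - num (PrimeSpectrum.comap φ q)) ∈ q.asIdeal
  rw [hq, map_sub, map_mul, ha']
  exact this

end GrothLib.PtFun25
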